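import Groth.Agent.H23.TwistAmple
import Groth.Agent.PnCoh.Finite.TwistTensor
import Groth.Agent.S13168
import Groth.Agent.S13164

/-!
# Twisting sheaves on a `Proj` covered by elements of a fixed degree

No hypothesis of generation in degree one: `O(n)` is ample when degree `n` elements cover, generation by
global sections in high degrees, and `O(m) ⊗ O(n) ≅ O(m + n)` when `O(m)` is trivialized by fractions.
-/

universe u

open CategoryTheory AlgebraicGeometry TopologicalSpace Opposite MonoidalCategory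

set_option backward.isDefEq.respectTransparency false
set_option backward.isDefEq.respectTransparency.types false

namespace Groth.Agent.TwistCover

open Groth.Agent

variable {R A : Type u} [CommRing R] [CommRing A] [Algebra R A]
  {𝒜 : ℕ → Submodule R A} [GradedAlgebra 𝒜]

theorem genLocus_globalOf {n : ℕ} (hcov : (⨆ g : 𝒜 n, Proj.basicOpen 𝒜 (g : A)) = ⊤) (g : 𝒜 n) :
    CohB1.genLocus (Twist.twist 𝒜 (n : ℤ))
      (InvX.ofSect (show Γ(Twist.twist 𝒜 (n : ℤ), ⊤) from Twist.globalOf 𝒜 g)) = Proj.basicOpen 𝒜 (g : A) := by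
  refine le_antisymm (fun x hx => ?_) (InvX.le_genLocus _ (by
    rw [InvX.one_ofSect]; exact TwistX.isFrame_res_globalOf g.2 fun y => y.2))
  obtain ⟨U, hxU, hU⟩ := InvX.mem_genLocus hx
  rw [InvX.one_ofSect] at hU
  obtain ⟨g', hg'⟩ := Opens.mem_iSup.1 (hcov.ge (trivial : x ∈ (⊤ : (Proj 𝒜).Opens)))
  obtain ⟨r, hr⟩ := hU.exists_coord (inf_le_left : U ⊓ Proj.basicOpen 𝒜 (g' : A) ≤ U)
    (AModX.res (Twist.twist 𝒜 (n : ℤ)) le_top (Twist.globalOf 𝒜 g'))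
  rw [AModX.res_res] at hr
  have h := congrArg (fun q => ((show Twist.sectN (𝒜 := 𝒜) (n : ℤ) (op (U ⊓ Proj.basicOpen 𝒜 (g' : A))) from q).1
    ⟨x, hxU, hg'⟩).1) hr
  have h' : (Localization.mk (g' : A) 1 : Twist.Loc 𝒜 x) =
      ((show Twist.O (𝒜 := 𝒜) (op (U ⊓ Proj.basicOpen 𝒜 (g' : A))) from r).1 ⟨x, hxU, hg'⟩).val *
        Localization.mk (g : A) 1 :=
    h.trans (Twist.coe_smul_val (n : ℤ) x _ _)
  have hu : IsUnit (Localization.mk (g' : A) 1 : Twist.Loc 𝒜 x) := by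
    rw [Localization.mk_one_eq_algebraMap]
    exact (IsLocalization.AtPrime.isUnit_to_map_iff _ x.asHomogeneousIdeal.toIdeal _).2 hg'
  rw [h'] at hu
  have hu' := isUnit_of_mul_isUnit_right hu
  rw [Localization.mk_one_eq_algebraMap] at hu'
  exact (IsLocalization.AtPrime.isUnit_to_map_iff _ x.asHomogeneousIdeal.toIdeal _).1 hu'

theorem generatedBy_of_cover {n : ℕ} (hcov : (⨆ g : 𝒜 n, Proj.basicOpen 𝒜 (g : A)) = ⊤) :
    ProjUP.GeneratedBy (Twist.twist 𝒜 (n : ℤ))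
      (fun b : 𝒜 n => (Twist.globalOf 𝒜 b : ProjUP.Γm (Twist.twist 𝒜 (n : ℤ)))) :=
  ProjUPX.generatedBy_of_frames _ fun x => by
    obtain ⟨g, hg⟩ := Opens.mem_iSup.1 (hcov.ge (trivial : x ∈ (⊤ : (Proj 𝒜).Opens)))
    exact ⟨g, Proj.basicOpen 𝒜 (g : A), hg, TwistX.isFrame_res_globalOf g.2 fun y => y.2⟩

theorem isInvertible_of_cover {n : ℕ} (hcov : (⨆ g : 𝒜 n, Proj.basicOpen 𝒜 (g : A)) = ⊤) :
    PicF.IsInvertible (Twist.twist 𝒜 (n : ℤ)) := InvX.isInvertible_of_frames fun x => by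
  obtain ⟨g, hg⟩ := Opens.mem_iSup.1 (hcov.ge (trivial : x ∈ (⊤ : (Proj 𝒜).Opens)))
  exact ⟨_, hg, _, TwistX.isFrame_res_globalOf g.2 fun y => y.2⟩

theorem isAmple_of_cover [CompactSpace (Proj 𝒜)] {n : ℕ} (hn : 0 < n)
    (hcov : (⨆ g : 𝒜 n, Proj.basicOpen 𝒜 (g : A)) = ⊤) : CohB1.IsAmple (Twist.twist 𝒜 (n : ℤ)) := by
  refine ⟨isInvertible_of_cover hcov, inferInstance, fun x => ?_⟩
  obtain ⟨g, hg⟩ := Opens.mem_iSup.1 (hcov.ge (trivial : x ∈ (⊤ : (Proj 𝒜).Opens)))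
  refine ⟨0, InvX.powHom (InvX.ofSect (show Γ(Twist.twist 𝒜 (n : ℤ), ⊤) from Twist.globalOf 𝒜 g)) 1, ?_⟩
  rw [InvX.genLocus_powHom (isInvertible_of_cover hcov) _ 0, genLocus_globalOf hcov g]
  exact ⟨hg, Proj.isAffineOpen_basicOpen 𝒜 (g : A) g.2 hn⟩

section Generated

/-- The section `c / t` of `O(n)` on an open where `t` does not vanish. -/
noncomputable def fracS {n k J : ℕ} (hk : k = J + n) {t : A} (ht : t ∈ 𝒜 J) {V : (Proj 𝒜).Opens}
    (hV : TwistX.NonVan (𝒜 := 𝒜) t V) : 𝒜 k →+ Twist.sectN (𝒜 := 𝒜) (n : ℤ) (op V) where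
  toFun c := ⟨fun y => ⟨Localization.mk c.1 ⟨t, hV y⟩,
      Submodule.subset_span ⟨k, J, c, ⟨t, ht⟩, hV y, by omega, rfl⟩⟩,
    fun y => ⟨V, y.2, 𝟙 _, k, J, c, ⟨t, ht⟩, fun z => hV z, Or.inl (by omega), fun _ => rfl⟩⟩
  map_zero' := Subtype.ext (funext fun y => Subtype.ext (Localization.mk_zero _))
  map_add' c d := Subtype.ext (funext fun y => Subtype.ext (Localization.add_mk_self c.1 _ d.1).symm)

theorem fracS_mem_span {n J : ℕ} {t : A} (ht : t ∈ 𝒜 J) {V : (Proj 𝒜).Opens}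
    (hV : TwistX.NonVan (𝒜 := 𝒜) t V) {x : Proj 𝒜} (hx : x ∈ V) {k : ℕ} (hk : k = J + n) (c : 𝒜 k)
    (hc : c.1 ∈ 𝒜 n * 𝒜 J) :
    ((Twist.twist 𝒜 (n : ℤ)).presheaf.germ V x hx).hom (fracS hk ht hV c) ∈
      Submodule.span ((Proj 𝒜).presheaf.stalk x) (Set.range fun b : 𝒜 n =>
        ((Twist.twist 𝒜 (n : ℤ)).presheaf.germ ⊤ x trivial).hom
          (show Γ(Twist.twist 𝒜 (n : ℤ), ⊤) from Twist.globalOf 𝒜 b)) := by
  obtain ⟨c, hck⟩ := c
  change c ∈ 𝒜 n * 𝒜 J at hc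
  induction hc using Submodule.mul_induction_on' with
  | mem_mul_mem b hb e he =>
    let r : Γ(Proj 𝒜, V) := ⟨fun y => HomogeneousLocalization.mk ⟨J, ⟨e, he⟩, ⟨t, ht⟩, hV y⟩,
      fun y => ⟨V, y.2, 𝟙 _, J, ⟨e, he⟩, ⟨t, ht⟩, fun z => hV z, fun _ => rfl⟩⟩
    have key : (show Γ(Twist.twist 𝒜 (n : ℤ), V) from fracS hk ht hV ⟨b * e, hck⟩) =
        r • AModX.res (Twist.twist 𝒜 (n : ℤ)) (le_top : V ≤ ⊤) (Twist.globalOf 𝒜 ⟨b, hb⟩) := by
      refine Subtype.ext (funext fun y => Subtype.ext ?_)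
      refine Eq.trans ?_ (Twist.coe_smul_val (n : ℤ) y.1 _ _).symm
      show Localization.mk (b * e) _ = Localization.mk e _ * Localization.mk b _
      rw [Localization.mk_mul, Localization.mk_eq_mk_iff, Localization.r_iff_exists]
      exact ⟨1, by simp; ring⟩
    rw [show fracS hk ht hV ⟨b * e, hck⟩ = _ from key, QCoh.germ_smul']
    refine Submodule.smul_mem _ _ (Submodule.subset_span ⟨⟨b, hb⟩, ?_⟩)
    exact ((Twist.twist 𝒜 (n : ℤ)).presheaf.germ_res_apply (homOfLE le_top) x hx _).symm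
  | add c hc d hd ihc ihd =>
    have hsub : ∀ z ∈ 𝒜 n * 𝒜 J, z ∈ 𝒜 k := fun z hz => by
      refine Submodule.mul_induction_on hz (fun b hb e he => ?_) (fun a b ha hb => add_mem ha hb)
      rw [hk, add_comm]
      exact SetLike.mul_mem_graded hb he
    rw [show (⟨c + d, hck⟩ : 𝒜 k) = ⟨c, hsub c hc⟩ + ⟨d, hsub d hd⟩ from rfl, map_add]
    exact (map_add ((Twist.twist 𝒜 (n : ℤ)).presheaf.germ V x hx).hom _ _).symm ▸
      add_mem (ihc (hsub c hc)) (ihd (hsub d hd))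

variable (𝒜) in
theorem mul_pow_decomp {s : ℕ} (f : Fin s → A) (deg : Fin s → ℕ) (hdeg : ∀ i, 0 < deg i)
    (hf : ∀ i, f i ∈ 𝒜 (deg i)) (hgen : Algebra.adjoin R (Set.range f) = ⊤) (n : ℕ)
    (hn : (s - 1) * (Finset.univ.lcm deg - 1) ≤ n) (j : ℕ) :
    𝒜 (n + j * Finset.univ.lcm deg) ≤ 𝒜 n * 𝒜 (j * Finset.univ.lcm deg) := by
  set l := Finset.univ.lcm deg with hl
  induction j with
  | zero =>
    intro a ha
    rw [zero_mul, add_zero] at ha
    rw [zero_mul]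
    simpa using Submodule.mul_mem_mul ha (SetLike.GradedOne.one_mem (A := 𝒜))
  | succ j ih =>
    rw [add_mul, one_mul, ← add_assoc, Groth.Agent.S13164.result 𝒜 f deg hdeg hf hgen _ (hn.trans le_self_add)]
    refine (mul_le_mul' ih le_rfl).trans ?_
    rw [mul_assoc]
    refine mul_le_mul' le_rfl (Submodule.mul_le.2 fun a ha b hb => ?_)
    exact SetLike.mul_mem_graded ha hb

theorem generatedBy_of_ge {s : ℕ} (f : Fin s → A) (deg : Fin s → ℕ) (hdeg : ∀ i, 0 < deg i)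
    (hf : ∀ i, f i ∈ 𝒜 (deg i)) (hgen : Algebra.adjoin R (Set.range f) = ⊤) (n : ℕ)
    (hn : (s - 1) * (Finset.univ.lcm deg - 1) ≤ n) :
    ProjUP.GeneratedBy (Twist.twist 𝒜 (n : ℤ))
      (fun b : 𝒜 n => (Twist.globalOf 𝒜 b : ProjUP.Γm (Twist.twist 𝒜 (n : ℤ)))) := fun x => by
  set l := Finset.univ.lcm deg with hl
  have hl0 : l ≠ 0 := by
    rw [hl, Finset.lcm_ne_zero_iff]
    exact fun i _ => (hdeg i).ne'
  refine eq_top_iff.2 fun z _ => ?_
  obtain ⟨U, hxU, σ, rfl⟩ := TopCat.Presheaf.exists_germ_eq (Twist.twist 𝒜 (n : ℤ)).presheaf z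
  obtain ⟨V, hxV, iV, i, j, a, t, nin, hdg, w⟩ :=
    (show Twist.sectN (𝒜 := 𝒜) (n : ℤ) (op U) from σ).2 ⟨x, hxU⟩
  rw [← (Twist.twist 𝒜 (n : ℤ)).presheaf.germ_res_apply iV x hxV σ]
  rcases hdg with hdg | h0
  · have htl : t.1 ^ l ∈ 𝒜 (j * l) := by simpa [mul_comm] using SetLike.pow_mem_graded l t.2
    have hc : a.1 * t.1 ^ (l - 1) ∈ 𝒜 (n + j * l) := by
      have e : n + j * l = i + (l - 1) * j := by
        obtain ⟨p, hp⟩ := Nat.exists_eq_succ_of_ne_zero hl0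
        rw [hp, Nat.mul_succ, Nat.succ_sub_one, mul_comm p j]
        omega
      rw [e]
      exact SetLike.mul_mem_graded a.2 (by simpa using SetLike.pow_mem_graded (l - 1) t.2)
    have hV : TwistX.NonVan (𝒜 := 𝒜) (t.1 ^ l) V := fun y => TwistX.notMem_pow (nin y) l
    have key : ((Twist.twist 𝒜 (n : ℤ)).presheaf.map iV.op).hom σ =
        fracS (Nat.add_comm n (j * l)) htl hV ⟨_, hc⟩ := by
      refine Subtype.ext (funext fun y => Subtype.ext ?_)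
      refine (w y).trans ?_
      show Localization.mk a.1 _ = Localization.mk (a.1 * t.1 ^ (l - 1)) _
      rw [Localization.mk_eq_mk_iff, Localization.r_iff_exists]
      refine ⟨1, ?_⟩
      obtain ⟨p, hp⟩ := Nat.exists_eq_succ_of_ne_zero hl0
      simp [hp, pow_succ]
      ring
    change ((Twist.twist 𝒜 (n : ℤ)).presheaf.germ V x hxV).hom
      (((Twist.twist 𝒜 (n : ℤ)).presheaf.map iV.op).hom σ) ∈ _
    rw [key]
    exact fracS_mem_span htl hV hxV _ _ (mul_pow_decomp 𝒜 f deg hdeg hf hgen n hn j hc)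
  · have key : ((Twist.twist 𝒜 (n : ℤ)).presheaf.map iV.op).hom σ = 0 := by
      refine Subtype.ext (funext fun y => Subtype.ext ?_)
      refine (w y).trans ?_
      rw [h0, Localization.mk_zero]
      rfl
    change ((Twist.twist 𝒜 (n : ℤ)).presheaf.germ V x hxV).hom
      (((Twist.twist 𝒜 (n : ℤ)).presheaf.map iV.op).hom σ) ∈ _
    rw [key, map_zero]
    exact zero_mem _

end Generated

section Tensor

open Groth.Agent.KFlatLib Groth.Agent.PnCoh.Finite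

/-- The inverse fraction. -/
def inv {m : ℤ} {U : (Proj 𝒜).Opens} (φ : TwistX.UnitFrac (𝒜 := 𝒜) m U) :
    TwistX.UnitFrac (𝒜 := 𝒜) (-m) U where
  i := φ.j
  j := φ.i
  num := φ.den
  den := φ.num
  num_mem := φ.den_mem
  den_mem := φ.num_mem
  deg := by have := φ.deg; omega
  num_ne := φ.den_ne
  den_ne := φ.num_ne

theorem exists_cast {a b : ℤ} (h : a = b) {U : (Proj 𝒜).Opens} (s : Twist.sectN (𝒜 := 𝒜) a (op U)) :
    ∃ t : Twist.sectN (𝒜 := 𝒜) b (op U), ∀ y : U, (t.1 y).1 = (s.1 y).1 := by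
  subst h; exact ⟨s, fun _ => rfl⟩

theorem mulSect_bijective {m : ℤ} {U : (Proj 𝒜).Opens} (φ : TwistX.UnitFrac (𝒜 := 𝒜) m U) (n : ℤ) :
    Function.Bijective (fun t : Twist.sectN (𝒜 := 𝒜) n (op U) => mulSect m n (TwistX.fracSect φ) t) := by
  refine ⟨fun t t' h => ?_, fun s => ?_⟩
  · refine Subtype.ext (funext fun y => Subtype.ext ?_)
    exact (TwistX.isUnit_frac φ y).mul_right_inj.1 (congrArg (fun g => (g.1 y).1) h)
  · obtain ⟨t, ht⟩ := exists_cast (neg_add_cancel_left m n) (mulSect (-m) (m + n) (TwistX.fracSect (inv φ)) s)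
    refine ⟨t, Subtype.ext (funext fun y => Subtype.ext ?_)⟩
    show Localization.mk φ.num ⟨φ.den, φ.den_ne y⟩ * (t.1 y).1 = (s.1 y).1
    rw [ht y]
    show Localization.mk φ.num ⟨φ.den, φ.den_ne y⟩ *
      (Localization.mk φ.den ⟨φ.num, φ.num_ne y⟩ * (s.1 y).1) = _
    rw [← mul_assoc, Localization.mk_mul]
    convert one_mul ((s.1 y).1) using 2
    rw [← Localization.mk_one, Localization.mk_eq_mk_iff, Localization.r_iff_exists]
    exact ⟨1, by simp [mul_comm]⟩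

theorem isIso_stalk_mulPre {m : ℤ} {U : (Proj 𝒜).Opens} (φ : TwistX.UnitFrac (𝒜 := 𝒜) m U)
    {x : Proj 𝒜} (hx : x ∈ U) (n : ℤ) : IsIso ((stalkP x).map (mulPre (𝒜 := 𝒜) m n)) := by
  rw [ConcreteCategory.isIso_iff_bijective]
  let P := DCoh.toP.obj (Twist.twist 𝒜 m)
  let Q := DCoh.toP.obj (Twist.twist 𝒜 n)
  let N := DCoh.toP.obj (Twist.twist 𝒜 (m + n))
  let e : ∀ W : (Proj 𝒜).Opens, W ≤ U → P.obj (op W) := fun W h => TwistX.fracSect (φ.res h)
  let L : (stalkMod x (P ⊗ Q) : Type u) →ₗ[(Proj 𝒜).presheaf.stalk x] (stalkMod x N : Type u) :=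
    ((stalkP x).map (mulPre m n)).hom
  let T := L ∘ₗ (tensorStalkEquiv P Q).toLinearMap
  let e₀ : stalkMod x P := germP P U hx (e U le_rfl)
  have he : ∀ (W : (Proj 𝒜).Opens) (h : W ≤ U) (hxW : x ∈ W), e₀ = germP P W hxW (e W h) :=
    fun W h hxW => (germP_res (P := P) (homOfLE h) hxW _).symm
  have hT : ∀ (W : (Proj 𝒜).Opens) (h : W ≤ U) (hxW : x ∈ W) (t : Q.obj (op W)),
      T (e₀ ⊗ₜ germP Q W hxW t) = germP N W hxW (mulSect m n (e W h) t) := by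
    intro W h hxW t
    rw [he W h hxW]
    refine Eq.trans (congrArg L (ofTensor_germ W hxW _ _)) ?_
    exact (stalkModMap_germ (mulPre m n) W hxW _).trans (congrArg _ (mulPre_tm m n _ t))
  have hform : ∀ z, ∃ t : stalkMod x Q, z = e₀ ⊗ₜ[(Proj 𝒜).presheaf.stalk x] t := by
    intro z
    induction z using TensorProduct.induction_on with
    | zero => exact ⟨0, (TensorProduct.tmul_zero _ _).symm⟩
    | add a b ha hb =>
      obtain ⟨t, rfl⟩ := ha
      obtain ⟨t', rfl⟩ := hb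
      exact ⟨t + t', (TensorProduct.tmul_add _ _ _).symm⟩
    | tmul p q =>
      obtain ⟨W, hxW, p, rfl⟩ := exists_germP p
      obtain ⟨c, hc⟩ := (TwistX.trivMap_bijective (φ.res (inf_le_right : W ⊓ U ≤ U))).2
        (res P (homOfLE inf_le_left) p)
      refine ⟨(Proj 𝒜).presheaf.germ (W ⊓ U) x ⟨hxW, hx⟩ c • q, ?_⟩
      rw [TensorProduct.tmul_smul, TensorProduct.smul_tmul', he (W ⊓ U) inf_le_right ⟨hxW, hx⟩,
        ← germP_smul, ← germP_res (P := P) (homOfLE inf_le_left) (⟨hxW, hx⟩ : x ∈ W ⊓ U) p, ← hc]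
      rfl
  have hTb : Function.Bijective T := by
    refine ⟨(injective_iff_map_eq_zero _).2 fun z hz => ?_, fun y => ?_⟩
    · obtain ⟨q, rfl⟩ := hform z
      obtain ⟨W₀, hxW₀, q, rfl⟩ := exists_germP q
      rw [← germP_res (P := Q) (homOfLE inf_le_left) (⟨hxW₀, hx⟩ : x ∈ W₀ ⊓ U) q] at hz ⊢
      rw [hT _ inf_le_right] at hz
      obtain ⟨W, hxW, j, j', hjj⟩ := TopCat.Presheaf.germ_eq (C := AddCommGrpCat.{u})
        N.presheaf x _ _ _ 0 (hz.trans (map_zero (germP N (W₀ ⊓ U) ⟨hxW₀, hx⟩)).symm)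
      have h0 : res Q j (res Q (homOfLE inf_le_left) q) = 0 := by
        refine (mulSect_bijective (φ.res (j.le.trans inf_le_right)) n).1 ?_
        refine (Eq.trans ?_ (hjj.trans (map_zero _))).trans ?_
        · rfl
        · exact Subtype.ext (funext fun y => Subtype.ext (mul_zero _).symm)
      rw [← germP_res (P := Q) j hxW, h0, map_zero, TensorProduct.tmul_zero]
    · obtain ⟨W, hxW, y, rfl⟩ := exists_germP y
      obtain ⟨t, ht⟩ := (mulSect_bijective (φ.res (inf_le_right : W ⊓ U ≤ U)) n).2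
        (res N (homOfLE inf_le_left) y)
      refine ⟨e₀ ⊗ₜ germP Q (W ⊓ U) ⟨hxW, hx⟩ t, ?_⟩
      rw [hT _ inf_le_right, ← germP_res (P := N) (homOfLE inf_le_left) (⟨hxW, hx⟩ : x ∈ W ⊓ U) y]
      exact congrArg _ ht
  have : ⇑L = T ∘ (tensorStalkEquiv P Q).symm := by
    funext z
    exact (congrArg L ((tensorStalkEquiv P Q).apply_symm_apply z)).symm
  show Function.Bijective ⇑L
  rw [this]
  exact hTb.comp (tensorStalkEquiv P Q).symm.bijective

/-- `O(m) ⊗ O(n) ≅ O(m + n)` when invertible degree `m` fractions cover. -/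
theorem nonempty_tensor_iso (m : ℤ)
    (hcov : ∀ x : Proj 𝒜, ∃ U : (Proj 𝒜).Opens, x ∈ U ∧ Nonempty (TwistX.UnitFrac (𝒜 := 𝒜) m U)) (n : ℤ) :
    Nonempty (CohB1.tensorMod (Twist.twist 𝒜 m) (Twist.twist 𝒜 n) ≅ Twist.twist 𝒜 (m + n)) := by
  have : IsIso (mulHom (𝒜 := 𝒜) m n) := by
    apply isIso_of_stalk
    intro x
    obtain ⟨U, hx, ⟨φ⟩⟩ := hcov x
    have h : unitShP (DCoh.toP.obj (Twist.twist 𝒜 m) ⊗ DCoh.toP.obj (Twist.twist 𝒜 n)) ≫
        DCoh.toP.map (mulHom (𝒜 := 𝒜) m n) = mulPre m n :=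
      ((PresheafOfModules.sheafificationAdjunction (𝟙 (Proj 𝒜).ringCatSheaf.obj)).homEquiv_unit
        (f := mulHom m n)).symm.trans (Equiv.apply_symm_apply _ _)
    haveI : IsIso ((stalkP x).map (DCoh.toP.map (mulHom (𝒜 := 𝒜) m n))) :=
      @IsIso.of_isIso_fac_left _ _ _ _ _
        ((stalkP x).map (unitShP (DCoh.toP.obj (Twist.twist 𝒜 m) ⊗ DCoh.toP.obj (Twist.twist 𝒜 n))))
        _ ((stalkP x).map (mulPre m n)) (isIso_stalk_unitShP _) (isIso_stalk_mulPre φ hx n)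
        (((stalkP x).map_comp _ _).symm.trans (congrArg (fun ψ => (stalkP x).map ψ) h))
    exact (NatIso.isIso_map_iff (stalkToPIso x) (mulHom (𝒜 := 𝒜) m n)).2 this
  exact ⟨@asIso _ _ _ _ (mulHom m n) this⟩

theorem exists_unitFrac {d : ℕ} (hcov : (⨆ g : 𝒜 d, Proj.basicOpen 𝒜 (g : A)) = ⊤) (a : ℤ)
    (x : Proj 𝒜) : ∃ U : (Proj 𝒜).Opens, x ∈ U ∧ Nonempty (TwistX.UnitFrac (𝒜 := 𝒜) (a * d) U) := by
  obtain ⟨g, hg⟩ := Opens.mem_iSup.1 (hcov.ge (trivial : x ∈ (⊤ : (Proj 𝒜).Opens)))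
  exact ⟨_, hg, ⟨TwistX.powFrac g.2 SetLike.GradedOne.one_mem (zero_add d).symm a (fun y => y.2)
    (fun y h => y.1.isPrime.ne_top ((Ideal.eq_top_iff_one _).mpr h))⟩⟩

end Tensor

end Groth.Agent.TwistCover
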