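import Mathlib

/-!
The Jacobian quotient of the cusp.
-/

namespace Groth.Agent.CuspQuot

open MvPolynomial

universe u

variable {k : Type u} [Field k]

noncomputable def expo {a b : ℕ} (p : Fin a × Fin b) : Fin 2 →₀ ℕ :=
  Finsupp.single 0 (p.1 : ℕ) + Finsupp.single 1 (p.2 : ℕ)

theorem expo_zero {a b : ℕ} (p : Fin a × Fin b) : expo p 0 = (p.1 : ℕ) := by simp [expo]

theorem expo_one {a b : ℕ} (p : Fin a × Fin b) : expo p 1 = (p.2 : ℕ) := by simp [expo]

theorem finrank_quot (a b : ℕ) :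
    Module.finrank k (MvPolynomial (Fin 2) k ⧸ Ideal.span ({X 0 ^ a, X 1 ^ b} : Set (MvPolynomial (Fin 2) k))) = a * b := by
  classical
  let I : Ideal (MvPolynomial (Fin 2) k) := Ideal.span {X 0 ^ a, X 1 ^ b}
  have hI : I = Ideal.span ((fun s => monomial s (1 : k)) '' {Finsupp.single 0 a, Finsupp.single 1 b}) := by
    simp [I, Set.image_pair, X_pow_eq_monomial]
  let L : MvPolynomial (Fin 2) k →ₗ[k] (Fin a × Fin b → k) := LinearMap.pi fun p => lcoeff k (expo p)
  have hker : LinearMap.ker L = I.restrictScalars k := by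
    ext q
    rw [Submodule.restrictScalars_mem, hI, mem_ideal_span_monomial_image, LinearMap.mem_ker]
    constructor
    · intro h m hm
      by_contra! hc
      have h0 : m 0 < a := not_le.1 fun hle => hc _ (Set.mem_insert _ _) (Finsupp.single_le_iff.2 hle)
      have h1 : m 1 < b := not_le.1 fun hle => hc _ (Set.mem_insert_of_mem _ rfl) (Finsupp.single_le_iff.2 hle)
      have e : expo (⟨m 0, h0⟩, ⟨m 1, h1⟩) = m := by
        ext i
        fin_cases i
        · exact expo_zero _
        · exact expo_one _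
      have := congrFun h (⟨m 0, h0⟩, ⟨m 1, h1⟩)
      simp only [L, LinearMap.pi_apply, lcoeff_apply, e] at this
      exact mem_support_iff.1 hm this
    · intro h
      funext p
      by_contra hc
      obtain ⟨si, hsi, hle⟩ := h (expo p) (mem_support_iff.2 hc)
      rcases hsi with rfl | rfl <;> rw [Finsupp.single_le_iff] at hle
      · rw [expo_zero] at hle; omega
      · rw [expo_one] at hle; omega
  have hsurj : Function.Surjective L := by
    intro c
    refine ⟨∑ p, monomial (expo p) (c p), funext fun q => ?_⟩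
    simp only [L, LinearMap.pi_apply, lcoeff_apply, coeff_sum, coeff_monomial]
    rw [Finset.sum_eq_single q (fun p _ hp => if_neg fun h => hp ?_) (by simp), if_pos rfl]
    refine Prod.ext (Fin.ext ?_) (Fin.ext ?_)
    · rw [← expo_zero, ← expo_zero, h]
    · rw [← expo_one, ← expo_one, h]
  have e := (Submodule.quotEquivOfEq _ _ hker.symm).trans (L.quotKerEquivOfSurjective hsurj)
  have e' := (Submodule.Quotient.restrictScalarsEquiv k I).symm.trans e
  rw [e'.finrank_eq, Module.finrank_fintype_fun_eq_card, Fintype.card_prod, Fintype.card_fin, Fintype.card_fin]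

theorem finrank_cusp (k : Type u) [Field k] (p : ℕ) [CharP k p] :
    Module.finrank k (MvPolynomial (Fin 2) k ⧸ Ideal.span
      ({X 1 ^ 2 - X 0 ^ 3, pderiv 0 (X 1 ^ 2 - X 0 ^ 3), pderiv 1 (X 1 ^ 2 - X 0 ^ 3)} :
        Set (MvPolynomial (Fin 2) k))) = (if p = 2 then 4 else if p = 3 then 3 else 2) := by
  have d0 : pderiv 0 (X 1 ^ 2 - X 0 ^ 3 : MvPolynomial (Fin 2) k) = - (3 * X 0 ^ 2) := by
    simp [pderiv_X_of_ne, pderiv_X_self, Derivation.leibniz_pow]
  have d1 : pderiv 1 (X 1 ^ 2 - X 0 ^ 3 : MvPolynomial (Fin 2) k) = 2 * X 1 := by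
    simp [pderiv_X_of_ne, pderiv_X_self, Derivation.leibniz_pow]
  rw [d0, d1]
  set I : Ideal (MvPolynomial (Fin 2) k) :=
    Ideal.span {X 1 ^ 2 - X 0 ^ 3, - (3 * X 0 ^ 2), 2 * X 1} with hI
  have m1 : (X 1 ^ 2 - X 0 ^ 3 : MvPolynomial (Fin 2) k) ∈ I := Ideal.subset_span (by simp)
  have m2 : (3 * X 0 ^ 2 : MvPolynomial (Fin 2) k) ∈ I := neg_mem_iff.1 (Ideal.subset_span (by simp))
  have m3 : (2 * X 1 : MvPolynomial (Fin 2) k) ∈ I := Ideal.subset_span (by simp)
  have hle : ∀ (J : Ideal (MvPolynomial (Fin 2) k)), X 1 ^ 2 - X 0 ^ 3 ∈ J → - (3 * X 0 ^ 2) ∈ J → 2 * X 1 ∈ J → I ≤ J :=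
    fun J h h' h'' => Ideal.span_le.2 (by rintro x (rfl | rfl | rfl) <;> assumption)
  have hC : ∀ n : ℕ, ((n : k) ≠ 0) → ∀ f : MvPolynomial (Fin 2) k, (n : MvPolynomial (Fin 2) k) * f ∈ I → f ∈ I := by
    intro n hn f hf
    have hu : IsUnit (n : MvPolynomial (Fin 2) k) := by
      rw [← map_natCast C n]; exact (IsUnit.mk0 _ hn).map C
    exact (Ideal.unit_mul_mem_iff_mem I hu).1 hf
  have n2 : ((2 : ℕ) : k) ≠ 0 ↔ p ≠ 2 := by
    rw [ne_eq, CharP.cast_eq_zero_iff k p 2]
    refine not_congr ⟨fun h => ?_, fun h => h ▸ dvd_rfl⟩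
    rcases (Nat.dvd_prime Nat.prime_two).1 h with h | h
    · exact absurd h (CharP.char_ne_one k p)
    · exact h
  have n3 : ((3 : ℕ) : k) ≠ 0 ↔ p ≠ 3 := by
    rw [ne_eq, CharP.cast_eq_zero_iff k p 3]
    refine not_congr ⟨fun h => ?_, fun h => h ▸ dvd_rfl⟩
    rcases (Nat.dvd_prime Nat.prime_three).1 h with h | h
    · exact absurd h (CharP.char_ne_one k p)
    · exact h
  by_cases hp2 : p = 2
  · subst hp2
    have z2 : (2 : MvPolynomial (Fin 2) k) = 0 := by
      rw [← map_ofNat C 2, show (2 : k) = 0 by exact_mod_cast CharP.cast_eq_zero k 2, map_zero]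
    have hx : (X 0 ^ 2 : MvPolynomial (Fin 2) k) ∈ I := hC 3 (n3.2 (by norm_num)) _ (by simpa using m2)
    have : I = Ideal.span {X 0 ^ 2, X 1 ^ 2} := by
      refine le_antisymm (hle _ ?_ ?_ ?_) (Ideal.span_le.2 ?_)
      · exact sub_mem (Ideal.subset_span (by simp))
          (by rw [show (X 0 ^ 3 : MvPolynomial (Fin 2) k) = X 0 ^ 2 * X 0 from pow_succ _ _]; exact Ideal.mul_mem_right _ _ (Ideal.subset_span (by simp)))
      · exact neg_mem (Ideal.mul_mem_left _ _ (Ideal.subset_span (by simp)))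
      · rw [z2, zero_mul]; exact zero_mem _
      · rintro x (rfl | rfl)
        · exact hx
        · have := add_mem m1 (show (X 0 ^ 3 : MvPolynomial (Fin 2) k) ∈ I by
            rw [show (X 0 ^ 3 : MvPolynomial (Fin 2) k) = X 0 ^ 2 * X 0 from pow_succ _ _]; exact Ideal.mul_mem_right _ _ hx)
          simpa using this
    rw [this, finrank_quot, if_pos rfl]
  · have hy : (X 1 : MvPolynomial (Fin 2) k) ∈ I := hC 2 (n2.2 hp2) _ (by simpa using m3)
    rw [if_neg hp2]
    by_cases hp3 : p = 3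
    · subst hp3
      have z3 : (3 : MvPolynomial (Fin 2) k) = 0 := by
        rw [← map_ofNat C 3, show (3 : k) = 0 by exact_mod_cast CharP.cast_eq_zero k 3, map_zero]
      have : I = Ideal.span {X 0 ^ 3, X 1 ^ 1} := by
        refine le_antisymm (hle _ ?_ ?_ ?_) (Ideal.span_le.2 ?_)
        · exact sub_mem (Ideal.pow_mem_of_mem _ (Ideal.subset_span (by simp)) 2 two_pos) (Ideal.subset_span (by simp))
        · rw [z3, zero_mul, neg_zero]; exact zero_mem _
        · exact Ideal.mul_mem_left _ _ (Ideal.subset_span (by simp))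
        · rintro x (rfl | rfl)
          · have := sub_mem (Ideal.pow_mem_of_mem _ hy 2 two_pos) m1
            simpa using this
          · simpa using hy
      rw [this, finrank_quot, if_pos rfl, mul_one]
    · have hx : (X 0 ^ 2 : MvPolynomial (Fin 2) k) ∈ I := hC 3 (n3.2 hp3) _ (by simpa using m2)
      have : I = Ideal.span {X 0 ^ 2, X 1 ^ 1} := by
        refine le_antisymm (hle _ ?_ ?_ ?_) (Ideal.span_le.2 ?_)
        · exact sub_mem (Ideal.pow_mem_of_mem _ (Ideal.subset_span (by simp)) 2 two_pos)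
            (by rw [show (X 0 ^ 3 : MvPolynomial (Fin 2) k) = X 0 ^ 2 * X 0 from pow_succ _ _]; exact Ideal.mul_mem_right _ _ (Ideal.subset_span (by simp)))
        · exact neg_mem (Ideal.mul_mem_left _ _ (Ideal.subset_span (by simp)))
        · exact Ideal.mul_mem_left _ _ (Ideal.subset_span (by simp))
        · rintro x (rfl | rfl)
          · exact hx
          · simpa using hy
      rw [this, finrank_quot, if_neg hp3, mul_one]

end Groth.Agent.CuspQuot
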