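import Groth.Agent.GeomField.Connected
import Groth.Prelude.Def_FinFr
import Mathlib.FieldTheory.Finite.GaloisField
import Mathlib.FieldTheory.IsAlgClosed.AlgebraicClosure

/-!
# Closed subsets of `X ⊗ k̄` stable under the Frobenius descend
-/

set_option linter.style.haveILetI false
set_option backward.isDefEq.respectTransparency false
set_option backward.isDefEq.respectTransparency.types false

universe u

open CategoryTheory CategoryTheory.Limits AlgebraicGeometry

namespace Groth.Agent.FrobDescent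

/-- A field valued point composed with the `q`-th power endomorphism is twisted by `x ↦ x ^ q`. -/
theorem comp_powEnd {X : Scheme.{u}} (FX : X ⟶ X) (q : ℕ) (hle : ∀ U : X.Opens, U ≤ FX ⁻¹ᵁ U)
    (hFapp : ∀ (U : X.Opens) (s : Γ(X, U)), (FX.appLE U U (hle U)).hom s = s ^ q)
    {L : Type u} [Field L] (fr : L →+* L) (hfr : ∀ a, fr a = a ^ q) (t : Spec (CommRingCat.of L) ⟶ X) :
    t ≫ FX = Spec.map (CommRingCat.ofHom fr) ≫ t := by
  obtain ⟨U, hU, hxU, -⟩ := exists_isAffineOpen_mem_and_subset (x := t (IsLocalRing.closedPoint L)) (U := ⊤) trivial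
  have hr : Set.range t ⊆ Set.range hU.fromSpec := by
    rintro _ ⟨z, rfl⟩
    rw [hU.range_fromSpec, show z = IsLocalRing.closedPoint L from
      @Subsingleton.elim _ (inferInstanceAs (Subsingleton (PrimeSpectrum L))) _ _]
    exact hxU
  obtain ⟨b, hb⟩ := Spec.map_surjective (IsOpenImmersion.lift hU.fromSpec t hr)
  have ht : t = Spec.map b ≫ hU.fromSpec := by rw [hb, IsOpenImmersion.lift_fac]
  rw [ht, Category.assoc, ← IsAffineOpen.SpecMap_appLE_fromSpec FX hU hU (hle U),
    ← Spec.map_comp_assoc, ← Spec.map_comp_assoc]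
  congr 2
  ext a
  simp [hFapp, hfr]

variable {k : Type u} [Field k] {X : Scheme.{u}} (f : X ⟶ Spec (CommRingCat.of k))
  {K : Type u} [Field K] [Algebra k K]

theorem galAct_galAct (σ τ : K ≃ₐ[k] K) (y : ↥(FinFr.ext K f)) :
    FinFr.galAct f τ (FinFr.galAct f σ y) = FinFr.galAct f (σ * τ) y := by
  have h : FinFr.galAct f σ ≫ FinFr.galAct f τ = FinFr.galAct f (σ * τ) := by
    apply pullback.hom_ext
    · simp only [Category.assoc, FinFr.galAct_fst]
    · simp only [Category.assoc, FinFr.galAct_snd]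
      rw [← Category.assoc, FinFr.galAct_snd, Category.assoc, ← Spec.map_comp]
      rfl
  exact congr($(h).base y)

theorem galAct_one (y : ↥(FinFr.ext K f)) : FinFr.galAct f (1 : K ≃ₐ[k] K) y = y := by
  have h : FinFr.galAct f (1 : K ≃ₐ[k] K) = 𝟙 _ := by
    apply pullback.hom_ext
    · simp only [FinFr.galAct_fst, Category.id_comp]
    · rw [FinFr.galAct_snd, Category.id_comp, show CommRingCat.ofHom ((1 : K ≃ₐ[k] K) : K →+* K) = 𝟙 _ from rfl,
        Spec.map_id, Category.comp_id]
  exact congr($(h).base y)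

/-- The Frobenius endomorphism moves points as the inverse arithmetic Frobenius. -/
theorem frob_apply [Finite k] {FX : X ⟶ X} (hle : ∀ U : X.Opens, U ≤ FX ⁻¹ᵁ U)
    (hFapp : ∀ (U : X.Opens) (s : Γ(X, U)), (FX.appLE U U (hle U)).hom s = s ^ Nat.card k)
    (F : FinFr.ext K f ⟶ FinFr.ext K f)
    (hF1 : F ≫ FinFr.extπ K f = FinFr.extπ K f ≫ FX) (hF2 : F ≫ FinFr.extStr K f = FinFr.extStr K f)
    (φ : K ≃ₐ[k] K) (hφ : ∀ a, φ a = a ^ Nat.card k) (y : ↥(FinFr.ext K f)) :
    F y = FinFr.galAct f φ.symm y := by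
  suffices h : ∀ z, F (FinFr.galAct f φ z) = z by
    conv_lhs => rw [← galAct_one f y, show (1 : K ≃ₐ[k] K) = φ.symm * φ from (inv_mul_cancel φ).symm, ← galAct_galAct]
    exact h _
  intro z
  let Y := FinFr.ext K f
  let L : Type u := Y.residueField z
  have : Fintype k := Fintype.ofFinite k
  obtain ⟨p, _⟩ := CharP.exists k
  obtain ⟨n, hp, hn⟩ := FiniteField.card k p
  have : Fact p.Prime := ⟨hp⟩
  obtain ⟨a, ha⟩ := Spec.map_surjective (Y.fromSpecResidueField z ≫ FinFr.extStr K f)
  have : CharP K p := charP_of_injective_algebraMap (algebraMap k K).injective p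
  have : CharP L p := charP_of_injective_ringHom (f := a.hom) a.hom.injective p
  let fr : L →+* L := iterateFrobenius L p n
  have hfr : ∀ x, fr x = x ^ Nat.card k := fun x => by
    rw [Nat.card_eq_fintype_card, hn]
    exact iterateFrobenius_def _ _ x
  have h : Y.fromSpecResidueField z ≫ FinFr.galAct f φ ≫ F =
      Spec.map (CommRingCat.ofHom fr) ≫ Y.fromSpecResidueField z := by
    apply pullback.hom_ext
    · simp only [Category.assoc, hF1]
      rw [reassoc_of% FinFr.galAct_fst f φ, ← Category.assoc, comp_powEnd FX _ hle hFapp fr hfr]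
    · simp only [Category.assoc, hF2, FinFr.galAct_snd]
      rw [← Category.assoc, ← ha, ← Spec.map_comp, ← Spec.map_comp]
      congr 1
      ext r
      show a.hom (φ r) = fr (a.hom r)
      rw [hfr, hφ, map_pow]
  have h' := congr($(h).base (IsLocalRing.closedPoint L))
  simp only [Scheme.Hom.comp_base, TopCat.hom_comp, ContinuousMap.comp_apply] at h'
  erw [Scheme.fromSpecResidueField_apply, Scheme.fromSpecResidueField_apply] at h'
  exact h'

theorem descends_iff [Finite k] (FX : X ⟶ X) (hFb : FX.base = 𝟙 _) (hle : ∀ U : X.Opens, U ≤ FX ⁻¹ᵁ U)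
    (hFapp : ∀ (U : X.Opens) (s : Γ(X, U)), (FX.appLE U U (hle U)).hom s = s ^ Nat.card k)
    (F : FinFr.ext (AlgebraicClosure k) f ⟶ FinFr.ext (AlgebraicClosure k) f)
    (hF1 : F ≫ FinFr.extπ (AlgebraicClosure k) f = FinFr.extπ (AlgebraicClosure k) f ≫ FX)
    (hF2 : F ≫ FinFr.extStr (AlgebraicClosure k) f = FinFr.extStr (AlgebraicClosure k) f)
    (W : Set ↑(FinFr.ext (AlgebraicClosure k) f)) (hW : IsClosed W) :
    (∃ Y : Set X, IsClosed Y ∧ (FinFr.extπ (AlgebraicClosure k) f).base ⁻¹' Y = W) ↔ F.base '' W ⊆ W := by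
  let K := AlgebraicClosure k
  have hπF : ∀ z, FinFr.extπ K f (F z) = FinFr.extπ K f z := fun z => by
    have h := congr($(hF1).base z)
    simp only [Scheme.Hom.comp_base, hFb, Category.comp_id] at h
    exact h
  constructor
  · rintro ⟨Y, -, rfl⟩ _ ⟨z, hz, rfl⟩
    show FinFr.extπ K f (F z) ∈ Y
    rwa [hπF]
  intro hFW
  letI : X.Over (Spec (CommRingCat.of k)) := ⟨f⟩
  refine ⟨FinFr.extπ K f '' W, GeomField.isClosedMap_bcFst (k := k) (X := X) K W hW,
    Set.Subset.antisymm ?_ (Set.subset_preimage_image _ _)⟩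
  rintro x ⟨y, hy, hxy⟩
  have : Fintype k := Fintype.ofFinite k
  obtain ⟨σ, hσ⟩ := GeomField.exists_galAct_eq (k := k) (X := X) (K := K) y x hxy
  let φ : K ≃ₐ[k] K := FiniteField.frobeniusAlgEquivOfAlgebraic k K
  have hφ : ∀ a, φ a = a ^ Nat.card k := fun a => by rw [Nat.card_eq_fintype_card]; rfl
  have hiter : ∀ n : ℕ, FinFr.galAct f (φ.symm ^ n) y ∈ W := by
    intro n
    induction n with
    | zero => rw [pow_zero, galAct_one]; exact hy
    | succ n ih =>
      rw [pow_succ, ← galAct_galAct, ← frob_apply f hle hFapp F hF1 hF2 φ hφ]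
      exact hFW ⟨_, ih, rfl⟩
  by_contra hx
  obtain ⟨L, hL, hdesc⟩ := GeomField.exists_open_descend (k := k) (X := X) (K := K) hW.isOpen_compl hx
  obtain ⟨V', -, hxV, hV⟩ := hdesc L le_rfl
  haveI := hL
  have : Finite L := Module.finite_of_finite k
  have : Fintype L := Fintype.ofFinite L
  haveI : Normal k L := inferInstance
  obtain ⟨⟨m, hmlt⟩, hm⟩ := (FiniteField.bijective_frobeniusAlgHom_pow k L).2 (σ.restrictNormal L : L →ₐ[k] L)
  have hσm : ∀ r : L, σ r = (r : K) ^ Fintype.card k ^ m := fun r => by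
    rw [← show algebraMap L K r = (r : K) from rfl, ← AlgEquiv.restrictNormal_commutes]
    have h := congr($hm r)
    simp only [AlgHom.coe_pow, FiniteField.coe_frobeniusAlgHom, pow_iterate] at h
    show ((σ.restrictNormal L r : L) : K) = _
    rw [show σ.restrictNormal L r = r ^ Fintype.card k ^ m from h.symm]
    rfl
  set d := Module.finrank k L with hd
  have hd0 : 0 < d := Module.finrank_pos
  have hcard : Fintype.card L = Fintype.card k ^ d := Module.card_eq_pow_finrank
  have hagree : ∀ r : L, (φ.symm ^ (m * (d - 1))) r = σ r := fun r => by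
    apply (φ ^ (m * (d - 1))).injective
    rw [← AlgEquiv.mul_apply, ← Commute.mul_pow (by exact (mul_inv_cancel φ).trans (inv_mul_cancel φ).symm),
      show φ * φ.symm = 1 from mul_inv_cancel φ, one_pow, AlgEquiv.one_apply, hσm, AlgEquiv.coe_pow,
      FiniteField.coe_frobeniusAlgEquivOfAlgebraic_iterate]
    show (r : K) = ((r : K) ^ Fintype.card k ^ m) ^ Fintype.card k ^ (m * (d - 1))
    rw [← pow_mul, ← pow_add, show m + m * (d - 1) = d * m by
      rw [add_comm, ← Nat.mul_succ, Nat.succ_eq_add_one, Nat.sub_add_cancel hd0, mul_comm],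
      pow_mul, ← hcard]
    exact congrArg Subtype.val (FiniteField.pow_card_pow m r).symm
  refine hV ?_ (hiter (m * (d - 1)))
  show FBaseLib.bcMap f L K (FinFr.galAct f (φ.symm ^ (m * (d - 1))) y) ∈ V'
  have hxV' : FBaseLib.bcMap f L K x ∈ V' := hxV
  rw [← hσ] at hxV'
  convert hxV' using 1
  have h : FinFr.galAct f (φ.symm ^ (m * (d - 1))) ≫ FBaseLib.bcMap f L K =
      Curv2.galAct k X K σ ≫ FBaseLib.bcMap f L K := by
    apply pullback.hom_ext
    · simp only [Category.assoc]
      erw [FBaseLib.bcMap_fst f L K]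
      exact (FinFr.galAct_fst f (φ.symm ^ (m * (d - 1)))).trans (show Curv2.galAct k X K σ ≫ Curv2.bcFst k X K = Curv2.bcFst k X K by
        rw [Curv2.galAct, pullback.lift_fst, Category.comp_id]).symm
    · simp only [Category.assoc]
      erw [FBaseLib.bcMap_snd f L K]
      erw [reassoc_of% FinFr.galAct_snd f (φ.symm ^ (m * (d - 1)))]
      have hs : Curv2.galAct k X K σ ≫ FinFr.extStr K f =
          FinFr.extStr K f ≫ Spec.map (CommRingCat.ofHom (σ : K →ₐ[k] K).toRingHom) := by
        show Curv2.galAct k X K σ ≫ Curv2.bcSnd k X K = _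
        rw [Curv2.galAct, pullback.lift_snd]
        rfl
      erw [reassoc_of% hs]
      rw [← Spec.map_comp, ← Spec.map_comp]
      congr 2
      ext r
      exact hagree r
  exact congr($(h).base y)

end Groth.Agent.FrobDescent
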