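import Groth.Agent.Lib.AmpleEmbed
import Groth.Agent.Lib.TwistCover

/-!
A closed immersion into `P^N` over an affine base from sections whose ratios generate the affine loci,
and the embedding of a `Proj` by a twisting sheaf whose Veronese algebra is generated in degree one.
-/

set_option linter.style.haveILetI false
set_option backward.isDefEq.respectTransparency false
set_option backward.isDefEq.respectTransparency.types false
set_option maxHeartbeats 800000

universe u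

open CategoryTheory CategoryTheory.Limits AlgebraicGeometry TopologicalSpace HomogeneousLocalization

namespace Groth.Agent.TwistEmbed

open Groth.Agent Groth.Agent.InvX Groth.Agent.H23

theorem exists_closedImmersion_over_of_good {R : Type u} [CommRing R] {X : Scheme.{u}}
    (f : X ⟶ Spec (CommRingCat.of R)) [IsProper f] {L : X.Modules} (hL : PicF.IsInvertible L)
    (n : ℕ) (s : Fin (n + 1) → Γ(L, ⊤)) (good : Fin (n + 1) → Prop) (haff : ∀ i, good i → IsAffineOpen (TrivBasic.locus (s i)))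
    (hcov : ∀ x, ∃ i, good i ∧ x ∈ TrivBasic.locus (s i))
    (hgen : ∀ i, good i → ∀ S : Subring Γ(X, TrivBasic.locus (s i)),
      (∀ c : R, (f.appLE ⊤ (TrivBasic.locus (s i)) le_top).hom ((Scheme.ΓSpecIso (CommRingCat.of R)).inv c) ∈ S) →
      (∀ (l : Fin (n + 1)) (b : Γ(X, TrivBasic.locus (s i))),
        AModX.res L le_top (s l) = b • AModX.res L (le_top : TrivBasic.locus (s i) ≤ ⊤) (s i) → b ∈ S) →
      S = ⊤) :
    ∃ i : X ⟶ CohB1.ProjSpaceOver n (Spec (CommRingCat.of R)), IsClosedImmersion i ∧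
      i ≫ pullback.snd (CohB1.ProjSpace.toSpec n (ULift.{u} ℤ)) (specULiftZIsTerminal.from (Spec (CommRingCat.of R))) = f ∧
      Nonempty (L ≅ (Scheme.Modules.pullback i).obj (Twist.twistOver n (Spec (CommRingCat.of R)) 1)) := by
  classical
  haveI : X.IsSeparated := ⟨by
    rw [← Limits.terminal.comp_from f]
    infer_instance⟩
  let U : Fin (n + 1) → X.Opens := fun i => TrivBasic.locus (s i)
  have hs : ProjUP.GeneratedBy L s := ProjUPX.generatedBy_of_frames _ fun x => by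
    obtain ⟨i, -, hi⟩ := hcov x
    exact ⟨i, U i, hi, TrivBasic.isFrame_res_of_le_locus le_rfl⟩
  obtain ⟨r, hr, τ, hτ⟩ := S3572.result n (specULiftZIsTerminal.from X) L hL s hs
  let F : CohB1.ProjSpaceOver n (Spec (CommRingCat.of R)) ⟶ CohB1.ProjSpace n (ULift.{u} ℤ) := pullback.fst (CohB1.ProjSpace.toSpec n (ULift.{u} ℤ)) (specULiftZIsTerminal.from (Spec (CommRingCat.of R)))
  let G : CohB1.ProjSpaceOver n (Spec (CommRingCat.of R)) ⟶ Spec (CommRingCat.of R) := pullback.snd (CohB1.ProjSpace.toSpec n (ULift.{u} ℤ)) (specULiftZIsTerminal.from (Spec (CommRingCat.of R)))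
  let j : X ⟶ CohB1.ProjSpaceOver n (Spec (CommRingCat.of R)) :=
    pullback.lift r f (specULiftZIsTerminal.hom_ext _ _)
  have hF : j ≫ F = r := pullback.lift_fst _ _ _
  have hG : j ≫ G = f := pullback.lift_snd _ _ _
  refine ⟨j, ?_, hG, ⟨τ.symm ≪≫ (Scheme.Modules.pullbackCongr hF.symm).app _ ≪≫
    ((Scheme.Modules.pullbackComp j F).app _).symm⟩⟩
  haveI : IsProper (CohB1.ProjSpace.toSpec n (ULift.{u} ℤ)) := PnCoh.Chow.isProper_toSpec n _
  haveI : IsProper G := MorphismProperty.pullback_snd _ _ inferInstance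
  haveI : IsProper j := by
    haveI : IsProper (j ≫ G) := hG ▸ ‹IsProper f›
    exact IsProper.of_comp j G
  haveI : IsAffineHom (specULiftZIsTerminal.from (Spec (CommRingCat.of R))) := isAffineHom_of_isAffine _
  haveI : IsAffineHom F := MorphismProperty.pullback_fst _ _ inferInstance
  let D₀ : Fin (n + 1) → (CohB1.ProjSpace n (ULift.{u} ℤ)).Opens := fun i =>
    Proj.basicOpen (CohB1.polyGrading n (ULift.{u} ℤ)) (MvPolynomial.X i)
  have hD₀ : ∀ i, IsAffineOpen (D₀ i) := fun i => Proj.isAffineOpen_basicOpen _ _ (ProjPt.X_mem _) one_pos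
  let D : Fin (n + 1) → (CohB1.ProjSpaceOver n (Spec (CommRingCat.of R))).Opens := fun i => F ⁻¹ᵁ D₀ i
  have hpre₀ : ∀ i, r ⁻¹ᵁ D₀ i = U i := fun i => AmpleEmbed.preimage_chart r τ i (hτ i)
  have hpre : ∀ i, j ⁻¹ᵁ D i = U i := fun i => by
    rw [← hpre₀ i, ← hF]
    rfl
  have hloc : ∀ i, good i → IsClosedImmersion (j ∣_ D i) := fun i hgood => by
    haveI : IsAffine (D i : Scheme) := (hD₀ i).preimage F
    haveI : IsAffine (j ⁻¹ᵁ D i : Scheme) := by rw [hpre]; exact haff i hgood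
    refine IsClosedImmersion.of_surjective_of_isAffine _ ?_
    have hsurj : Function.Surjective (j.appLE (D i) (U i) (hpre i).ge) := by
      refine RingHom.range_eq_top.1 (hgen i hgood _ (fun c => ?_) fun l b hb => ?_)
      · refine ⟨G.appLE ⊤ (D i) le_top ((Scheme.ΓSpecIso (CommRingCat.of R)).inv c), ?_⟩
        rw [← CommRingCat.comp_apply, Scheme.Hom.appLE_comp_appLE]
        simp only [hG]
        rfl
      · refine ⟨F.appLE (D₀ i) (D i) le_rfl ((Proj.awayToSection (CohB1.polyGrading n (ULift.{u} ℤ)) (MvPolynomial.X i)).hom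
          (Away.mk (CohB1.polyGrading n (ULift.{u} ℤ)) (ProjPt.X_mem _) 1 (MvPolynomial.X l)
            (by rw [one_smul]; exact ProjPt.X_mem _))), ?_⟩
        rw [← CommRingCat.comp_apply, Scheme.Hom.appLE_comp_appLE]
        simp only [hF]
        exact AmpleEmbed.ratioOf_eq r τ _ _ (hτ i) (hτ l) (hpre₀ i).ge b hb
    intro z
    rw [morphismRestrict_appTop]
    obtain ⟨y, hy⟩ := hsurj (X.presheaf.map (eqToHom (hpre i).symm).op
      ((j ⁻¹ᵁ D i).topIso.hom z))
    refine ⟨(D i).topIso.inv y, (ConcreteCategory.bijective_of_isIso (j ⁻¹ᵁ D i).topIso.hom).1 ?_⟩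
    apply (ConcreteCategory.bijective_of_isIso (X.presheaf.map (eqToHom (hpre i).symm).op)).1
    rw [← hy]
    simp only [← CommRingCat.comp_apply]
    congr 2
    simp only [Scheme.Hom.appLE, Scheme.Opens.topIso, Category.assoc]
    simp [← Functor.map_comp]
    rw [j.naturality_assoc, ← Functor.map_comp]
    rfl
  let E : (CohB1.ProjSpaceOver n (Spec (CommRingCat.of R))).Opens :=
    ⟨(Set.range j)ᶜ, j.isClosedMap.isClosed_range.isOpen_compl⟩
  have hE : IsClosedImmersion (j ∣_ E) := by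
    haveI : IsEmpty (j ⁻¹ᵁ E : Scheme) := ⟨fun x => x.2 ⟨x.1, rfl⟩⟩
    infer_instance
  refine IsZariskiLocalAtTarget.of_iSup_eq_top (P := @IsClosedImmersion) (fun o : Option {i : Fin (n + 1) // good i} => o.elim E fun i => D i.1) ?_ ?_
  · refine top_le_iff.1 fun y _ => ?_
    by_cases hy : y ∈ Set.range j
    · obtain ⟨x, rfl⟩ := hy
      obtain ⟨i, hgood, hi⟩ := hcov x
      exact Opens.mem_iSup.2 ⟨some ⟨i, hgood⟩, show x ∈ j ⁻¹ᵁ D i from (hpre i).ge hi⟩
    · exact Opens.mem_iSup.2 ⟨none, hy⟩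
  · rintro (_ | i)
    · exact hE
    · exact hloc i.1 i.2

/-- The version where every locus is affine. -/
theorem exists_closedImmersion_over {R : Type u} [CommRing R] {X : Scheme.{u}}
    (f : X ⟶ Spec (CommRingCat.of R)) [IsProper f] {L : X.Modules} (hL : PicF.IsInvertible L)
    (n : ℕ) (s : Fin (n + 1) → Γ(L, ⊤)) (haff : ∀ i, IsAffineOpen (TrivBasic.locus (s i)))
    (hcov : ∀ x, ∃ i, x ∈ TrivBasic.locus (s i))
    (hgen : ∀ i, ∀ S : Subring Γ(X, TrivBasic.locus (s i)),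
      (∀ c : R, (f.appLE ⊤ (TrivBasic.locus (s i)) le_top).hom ((Scheme.ΓSpecIso (CommRingCat.of R)).inv c) ∈ S) →
      (∀ (l : Fin (n + 1)) (b : Γ(X, TrivBasic.locus (s i))),
        AModX.res L le_top (s l) = b • AModX.res L (le_top : TrivBasic.locus (s i) ≤ ⊤) (s i) → b ∈ S) →
      S = ⊤) :
    ∃ i : X ⟶ CohB1.ProjSpaceOver n (Spec (CommRingCat.of R)), IsClosedImmersion i ∧
      i ≫ pullback.snd (CohB1.ProjSpace.toSpec n (ULift.{u} ℤ)) (specULiftZIsTerminal.from (Spec (CommRingCat.of R))) = f ∧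
      Nonempty (L ≅ (Scheme.Modules.pullback i).obj (Twist.twistOver n (Spec (CommRingCat.of R)) 1)) := by
  obtain ⟨i, hi⟩ := exists_closedImmersion_over_of_good f hL n s (fun _ => True) (fun i _ => haff i)
    (fun x => (hcov x).imp fun _ h => ⟨trivial, h⟩) (fun i _ => hgen i)
  exact ⟨i, hi⟩

section Proj

variable {R A : Type u} [CommRing R] [CommRing A] [Algebra R A] {𝒜 : ℕ → Submodule R A} [GradedAlgebra 𝒜]

/-- The structure map of `Proj` on a basic open sends a scalar to the constant fraction. -/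
theorem appLE_toSpec {g : A} {d : ℕ} (hg : g ∈ 𝒜 d) (hd : 0 < d) (c : R) :
    (Proj.toSpecZero 𝒜 ≫ Spec.map (CommRingCat.ofHom (algebraMap R (𝒜 0)))).appLE ⊤ (Proj.basicOpen 𝒜 g) le_top
      ((Scheme.ΓSpecIso (CommRingCat.of R)).inv c) =
    (Proj.awayToSection 𝒜 g).hom (fromZeroRingHom 𝒜 _ (algebraMap R (𝒜 0) c)) := by
  set f := Proj.toSpecZero 𝒜 ≫ Spec.map (CommRingCat.ofHom (algebraMap R (𝒜 0))) with hf
  let D := Proj.basicOpen 𝒜 g
  have hι : D.ι ≫ f = Proj.basicOpenToSpec 𝒜 g ≫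
      Spec.map (CommRingCat.ofHom (algebraMap R (𝒜 0)) ≫ CommRingCat.ofHom (fromZeroRingHom 𝒜 _)) := by
    show (Proj.basicOpen 𝒜 g).ι ≫ f = _
    rw [hf, ← Proj.basicOpenIsoSpec_hom 𝒜 g hg hd, Spec.map_comp,
      ← Proj.awayι_toSpecZero_assoc 𝒜 g hg hd, ← Proj.basicOpenIsoSpec_inv_ι 𝒜 g hg hd,
      Category.assoc, Iso.hom_inv_id_assoc]
  clear_value f
  have h : (Scheme.ΓSpecIso (CommRingCat.of R)).inv ≫ f.appLE ⊤ D le_top ≫ D.topIso.inv =
      (CommRingCat.ofHom (algebraMap R (𝒜 0)) ≫ CommRingCat.ofHom (fromZeroRingHom 𝒜 _)) ≫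
        Proj.awayToSection 𝒜 g ≫ D.topIso.inv := by
    have h1 : (D.ι ≫ f).appTop = (Proj.basicOpenToSpec 𝒜 g ≫
        Spec.map (CommRingCat.ofHom (algebraMap R (𝒜 0)) ≫ CommRingCat.ofHom (fromZeroRingHom 𝒜 _))).appTop := by
      rw [hι]
    rw [Scheme.Hom.comp_appTop, Scheme.Hom.comp_appTop, show (Proj.basicOpenToSpec 𝒜 g).appTop = _ from
      Proj.basicOpenToSpec_app_top 𝒜 g] at h1
    have h2 := congrArg ((Scheme.ΓSpecIso (CommRingCat.of R)).inv ≫ ·) h1
    dsimp at h2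
    rw [← Scheme.ΓSpecIso_inv_naturality_assoc, Iso.inv_hom_id_assoc] at h2
    refine Eq.trans ?_ h2
    congr 1
  simp only [← Category.assoc, cancel_mono] at h
  exact congrArg (fun φ => φ.hom c) h

/-- Degree `k • n` elements as functions on `D₊(g)`. -/
noncomputable def fracR {g : A} {n : ℕ} (hg : g ∈ 𝒜 n) (k : ℕ) :
    𝒜 (k • n) →+ Γ(Proj 𝒜, Proj.basicOpen 𝒜 g) :=
  (Proj.awayToSection 𝒜 g).hom.toAddMonoidHom.comp
    { toFun := fun c => Away.mk 𝒜 hg k c.1 c.2
      map_zero' := by ext; simp [Localization.mk_zero]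
      map_add' := fun c d => by ext; simp [Localization.add_mk_self] }

theorem eq_top_of_ratios {g : A} {n : ℕ} (hg : g ∈ 𝒜 n) (hn : 0 < n)
    (h0 : ∀ c ∈ 𝒜 0, ∃ r : R, algebraMap R A r = c)
    (hmul : ∀ k : ℕ, 𝒜 ((k + 1) • n) ≤ 𝒜 n * 𝒜 (k • n)) {κ : Type*} (T : κ → 𝒜 n)
    (hT : 𝒜 n ≤ Submodule.span R (Set.range fun i => (T i : A))) (U : (Proj 𝒜).Opens)
    (hU : U = Proj.basicOpen 𝒜 g) (S : Subring Γ(Proj 𝒜, U))
    (hc : ∀ c : R, ((Proj.toSpecZero 𝒜 ≫ Spec.map (CommRingCat.ofHom (algebraMap R (𝒜 0)))).appLE ⊤ U le_top).hom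
      ((Scheme.ΓSpecIso (CommRingCat.of R)).inv c) ∈ S)
    (hr : ∀ (l : κ) (b : Γ(Proj 𝒜, U)),
      AModX.res (Twist.twist 𝒜 (n : ℤ)) le_top (Twist.globalOf 𝒜 (T l)) =
        b • AModX.res (Twist.twist 𝒜 (n : ℤ)) (le_top : U ≤ ⊤) (Twist.globalOf 𝒜 ⟨g, hg⟩) → b ∈ S) :
    S = ⊤ := by
  subst hU
  have hconst : ∀ (c : R), (Proj.awayToSection 𝒜 g).hom (fromZeroRingHom 𝒜 _ (algebraMap R (𝒜 0) c)) ∈ S :=
    fun c => appLE_toSpec hg hn c ▸ hc c
  have h1n : ∀ {b : A}, b ∈ 𝒜 n → b ∈ 𝒜 (1 • n) := fun hb => by rwa [one_smul]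
  have hrat : ∀ l, fracR hg 1 ⟨_, h1n (T l).2⟩ ∈ S := fun l => hr l _ (by
    refine Subtype.ext (funext fun y => Subtype.ext ?_)
    refine Eq.trans ?_ (Twist.coe_smul_val (n : ℤ) y.1 _ _).symm
    show Localization.mk (T l).1 _ = Localization.mk (T l).1 ⟨g ^ 1, _⟩ * Localization.mk g _
    rw [Localization.mk_mul, Localization.mk_eq_mk_iff, Localization.r_iff_exists]
    exact ⟨1, by simp only [OneMemClass.coe_one, one_mul, Submonoid.coe_mul, pow_one, mul_one]; ring⟩)
  have hlin : ∀ b (hb : b ∈ 𝒜 n), fracR hg 1 ⟨b, h1n hb⟩ ∈ S := by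
    have key : ∀ b ∈ Submodule.span R (Set.range fun i => (T i : A)), ∀ hb : b ∈ 𝒜 (1 • n),
        fracR hg 1 ⟨b, hb⟩ ∈ S := by
      intro b hb
      induction hb using Submodule.span_induction with
      | mem x hx => obtain ⟨l, rfl⟩ := hx; exact fun _ => hrat l
      | zero => exact fun hb => (map_zero (fracR hg 1)).symm ▸ S.zero_mem
      | add x y hx hy ihx ihy =>
        intro hb
        have hsub : Submodule.span R (Set.range fun i => (T i : A)) ≤ 𝒜 (1 • n) :=
          Submodule.span_le.2 (by rintro _ ⟨l, rfl⟩; exact h1n (T l).2)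
        rw [show (⟨x + y, hb⟩ : 𝒜 (1 • n)) = ⟨x, hsub hx⟩ + ⟨y, hsub hy⟩ from rfl, map_add]
        exact S.add_mem (ihx _) (ihy _)
      | smul r x hx ihx =>
        intro hb
        have hsub : Submodule.span R (Set.range fun i => (T i : A)) ≤ 𝒜 (1 • n) :=
          Submodule.span_le.2 (by rintro _ ⟨l, rfl⟩; exact h1n (T l).2)
        have : fracR hg 1 ⟨r • x, hb⟩ =
            (Proj.awayToSection 𝒜 g).hom (fromZeroRingHom 𝒜 _ (algebraMap R (𝒜 0) r)) * fracR hg 1 ⟨x, hsub hx⟩ := by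
          refine Eq.trans ?_ (map_mul (Proj.awayToSection 𝒜 g).hom _ _)
          refine congrArg (fun w => (Proj.awayToSection 𝒜 g).hom w) (HomogeneousLocalization.val_injective _ ?_)
          rw [HomogeneousLocalization.val_mul]
          show Localization.mk (r • x) _ = Localization.mk (algebraMap R A r) _ * Localization.mk x _
          rw [Localization.mk_mul, Localization.mk_eq_mk_iff, Localization.r_iff_exists]
          exact ⟨1, by simp [Algebra.smul_def]⟩
        rw [this]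
        exact S.mul_mem (hconst r) (ihx _)
    exact fun b hb => key b (hT hb) (h1n hb)
  have hall : ∀ (k : ℕ) (c : 𝒜 (k • n)), fracR hg k c ∈ S := by
    intro k
    induction k with
    | zero =>
      rintro ⟨c, hc0⟩
      obtain ⟨r, rfl⟩ := h0 c (by simpa using hc0)
      have : fracR hg 0 ⟨algebraMap R A r, hc0⟩ =
          (Proj.awayToSection 𝒜 g).hom (fromZeroRingHom 𝒜 _ (algebraMap R (𝒜 0) r)) := by
        refine congrArg (fun w => (Proj.awayToSection 𝒜 g).hom w) (HomogeneousLocalization.val_injective _ ?_)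
        show Localization.mk _ _ = Localization.mk _ _
        rw [Localization.mk_eq_mk_iff, Localization.r_iff_exists]
        exact ⟨1, by simp⟩
      rw [this]
      exact hconst r
    | succ k ih =>
      rintro ⟨c, hc'⟩
      have key : ∀ z ∈ 𝒜 n * 𝒜 (k • n), ∀ hz : z ∈ 𝒜 ((k + 1) • n), fracR hg (k + 1) ⟨z, hz⟩ ∈ S := by
        intro z hz
        induction hz using Submodule.mul_induction_on' with
        | mem_mul_mem b hb e he =>
          intro hz
          have : fracR hg (k + 1) ⟨b * e, hz⟩ = fracR hg 1 ⟨b, h1n hb⟩ * fracR hg k ⟨e, he⟩ := by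
            refine Eq.trans ?_ (map_mul (Proj.awayToSection 𝒜 g).hom _ _)
            refine congrArg (fun w => (Proj.awayToSection 𝒜 g).hom w) (HomogeneousLocalization.val_injective _ ?_)
            rw [HomogeneousLocalization.val_mul]
            show Localization.mk (b * e) _ = Localization.mk b _ * Localization.mk e _
            rw [Localization.mk_mul, Localization.mk_eq_mk_iff, Localization.r_iff_exists]
            exact ⟨1, by simp; ring⟩
          rw [this]
          exact S.mul_mem (hlin b hb) (ih _)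
        | add x hx y hy ihx ihy =>
          intro hz
          have hsub : 𝒜 n * 𝒜 (k • n) ≤ 𝒜 ((k + 1) • n) := by
            rw [succ_nsmul']
            exact ZeroCycLib.mul_le 𝒜 _ _
          rw [show (⟨x + y, hz⟩ : 𝒜 ((k + 1) • n)) = ⟨x, hsub hx⟩ + ⟨y, hsub hy⟩ from rfl, map_add]
          exact S.add_mem (ihx _) (ihy _)
      exact key c (hmul k hc') hc'
  refine eq_top_iff.2 fun z _ => ?_
  haveI : IsIso (Proj.awayToSection 𝒜 g) := by
    rw [← Proj.basicOpenIsoAway_hom 𝒜 g hg hn]; infer_instance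
  obtain ⟨w, rfl⟩ := (ConcreteCategory.bijective_of_isIso (Proj.awayToSection 𝒜 g)).2 z
  obtain ⟨k, c, hc', rfl⟩ := Away.mk_surjective 𝒜 hg w
  exact hall k ⟨c, hc'⟩

theorem exists_embedding (n : ℕ) (hn : 0 < n)
    [IsProper (Proj.toSpecZero 𝒜 ≫ Spec.map (CommRingCat.ofHom (algebraMap R (𝒜 0))))]
    (h0 : ∀ c ∈ 𝒜 0, ∃ r : R, algebraMap R A r = c)
    (hmul : ∀ k : ℕ, 𝒜 ((k + 1) • n) ≤ 𝒜 n * 𝒜 (k • n)) (hfg : (𝒜 n).FG)
    (hcov : (⨆ g : 𝒜 n, Proj.basicOpen 𝒜 (g : A)) = ⊤) :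
    ∃ (N : ℕ) (i : Proj 𝒜 ⟶ CohB1.ProjSpaceOver N (Spec (CommRingCat.of R))), IsClosedImmersion i ∧
      i ≫ pullback.snd (CohB1.ProjSpace.toSpec N (ULift.{u} ℤ)) (specULiftZIsTerminal.from (Spec (CommRingCat.of R))) =
        Proj.toSpecZero 𝒜 ≫ Spec.map (CommRingCat.ofHom (algebraMap R (𝒜 0))) ∧
      Nonempty (Twist.twist 𝒜 (n : ℤ) ≅
        (Scheme.Modules.pullback i).obj (Twist.twistOver N (Spec (CommRingCat.of R)) 1)) := by
  classical
  obtain ⟨G, hG⟩ := hfg
  have hGn : ∀ x ∈ G, x ∈ 𝒜 n := fun x hx => hG.le (Submodule.subset_span hx)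
  let T : Fin (G.card + 1) → 𝒜 n :=
    Fin.cases 0 fun i => ⟨(G.equivFin.symm i).1, hGn _ (G.equivFin.symm i).2⟩
  have hT : 𝒜 n ≤ Submodule.span R (Set.range fun i => (T i : A)) := by
    refine hG.ge.trans ?_
    refine Submodule.span_mono fun x hx => ⟨(G.equivFin ⟨x, hx⟩).succ, ?_⟩
    simp [T]
  let s : Fin (G.card + 1) → Γ(Twist.twist 𝒜 (n : ℤ), ⊤) := fun i => Twist.globalOf 𝒜 (T i)
  have hloc : ∀ i, TrivBasic.locus (s i) = Proj.basicOpen 𝒜 (T i : A) := fun i =>
    TwistCover.genLocus_globalOf hcov (T i)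
  refine ⟨G.card, exists_closedImmersion_over _ (TwistCover.isInvertible_of_cover hcov) G.card s
    (fun i => by rw [hloc]; exact Proj.isAffineOpen_basicOpen 𝒜 _ (T i).2 hn) (fun x => ?_)
    (fun i S hc hr => eq_top_of_ratios (T i).2 hn h0 hmul T hT _ (hloc i) S hc hr)⟩
  obtain ⟨g, hg⟩ := Opens.mem_iSup.1 (hcov.ge (trivial : x ∈ (⊤ : (Proj 𝒜).Opens)))
  by_contra! h
  refine hg ((Submodule.span_le.2 ?_) (hT g.2) : (g : A) ∈ (x.asHomogeneousIdeal.toIdeal.restrictScalars R))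
  rintro _ ⟨l, rfl⟩
  exact not_not.1 fun hl => h l (by rw [hloc]; exact hl)

/-- Generation of the ring of a chart of a degree one element by the ratios of algebra generators. -/
theorem eq_top_of_gen_ratios {g : A} (hg : g ∈ 𝒜 1) {s : ℕ} (f : Fin s → A) (deg : Fin s → ℕ)
    (hf : ∀ i, f i ∈ 𝒜 (deg i)) (hgen : Algebra.adjoin R (Set.range f) = ⊤) {n : ℕ}
    (hdn : ∀ i, deg i ≤ n) (U : (Proj 𝒜).Opens) (hU : U = Proj.basicOpen 𝒜 g) (S : Subring Γ(Proj 𝒜, U))
    (hc : ∀ c : R, ((Proj.toSpecZero 𝒜 ≫ Spec.map (CommRingCat.ofHom (algebraMap R (𝒜 0)))).appLE ⊤ U le_top).hom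
      ((Scheme.ΓSpecIso (CommRingCat.of R)).inv c) ∈ S)
    (hr : ∀ (l : Fin s) (hl : f l * g ^ (n - deg l) ∈ 𝒜 n) (hgn : g ^ n ∈ 𝒜 n) (b : Γ(Proj 𝒜, U)),
      AModX.res (Twist.twist 𝒜 (n : ℤ)) le_top (Twist.globalOf 𝒜 ⟨_, hl⟩) =
        b • AModX.res (Twist.twist 𝒜 (n : ℤ)) (le_top : U ≤ ⊤) (Twist.globalOf 𝒜 ⟨_, hgn⟩) → b ∈ S) :
    S = ⊤ := by
  subst hU
  have hconst : ∀ (c : R), (Proj.awayToSection 𝒜 g).hom (fromZeroRingHom 𝒜 _ (algebraMap R (𝒜 0) c)) ∈ S :=
    fun c => appLE_toSpec hg one_pos c ▸ hc c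
  have hgp : ∀ m, g ^ m ∈ 𝒜 m := fun m => by simpa using SetLike.pow_mem_graded m hg
  have h1 : ∀ {c : A} {m : ℕ}, c ∈ 𝒜 m → c ∈ 𝒜 (m • 1) := fun hc => by rwa [smul_eq_mul, mul_one]
  have hratio : ∀ l, fracR hg (deg l) ⟨f l, h1 (hf l)⟩ ∈ S := fun l => by
    have hl : f l * g ^ (n - deg l) ∈ 𝒜 n := by
      simpa [Nat.add_sub_cancel' (hdn l)] using SetLike.mul_mem_graded (hf l) (hgp (n - deg l))
    refine hr l hl (hgp n) _ (Subtype.ext (funext fun y => Subtype.ext ?_))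
    refine Eq.trans ?_ (Twist.coe_smul_val (n : ℤ) y.1 _ _).symm
    show Localization.mk (f l * g ^ (n - deg l)) _ = Localization.mk (f l) ⟨g ^ deg l, _⟩ * Localization.mk (g ^ n) _
    rw [Localization.mk_mul, Localization.mk_eq_mk_iff, Localization.r_iff_exists]
    refine ⟨1, ?_⟩
    simp only [OneMemClass.coe_one, one_mul, Submonoid.coe_mul, mul_one]
    rw [mul_left_comm, ← pow_add, Nat.add_sub_cancel' (hdn l)]
  have hmulF : ∀ (i j : ℕ) (b e : A) (hb : b ∈ 𝒜 (i • 1)) (he : e ∈ 𝒜 (j • 1)) (hbe : b * e ∈ 𝒜 ((i + j) • 1)),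
      fracR hg (i + j) ⟨b * e, hbe⟩ = fracR hg i ⟨b, hb⟩ * fracR hg j ⟨e, he⟩ := by
    intro i j b e hb he hbe
    refine Eq.trans ?_ (map_mul (Proj.awayToSection 𝒜 g).hom _ _)
    refine congrArg (fun w => (Proj.awayToSection 𝒜 g).hom w) (HomogeneousLocalization.val_injective _ ?_)
    rw [HomogeneousLocalization.val_mul]
    show Localization.mk (b * e) _ = Localization.mk b _ * Localization.mk e _
    rw [Localization.mk_mul, Localization.mk_eq_mk_iff, Localization.r_iff_exists]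
    exact ⟨1, by simp; ring⟩
  have hmon : ∀ (t : Finset (Fin s)) (e : Fin s → ℕ) (hm : ∏ i ∈ t, f i ^ e i ∈ 𝒜 ((∑ i ∈ t, e i * deg i) • 1)),
      fracR hg (∑ i ∈ t, e i * deg i) ⟨∏ i ∈ t, f i ^ e i, hm⟩ ∈ S := by
    classical
    intro t e
    induction t using Finset.induction_on with
    | empty =>
      intro hm
      have key : ∀ (m : ℕ) (hm : m = 0) (c : 𝒜 (m • 1)), c.1 = 1 → fracR hg m c = 1 := by
        rintro m rfl c hc1
        refine Eq.trans ?_ (map_one (Proj.awayToSection 𝒜 g).hom)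
        refine congrArg (fun w => (Proj.awayToSection 𝒜 g).hom w) (HomogeneousLocalization.val_injective _ ?_)
        rw [HomogeneousLocalization.val_one]
        show Localization.mk c.1 _ = 1
        rw [← Localization.mk_one, Localization.mk_eq_mk_iff, Localization.r_iff_exists]
        exact ⟨1, by simp [hc1]⟩
      rw [key _ Finset.sum_empty _ (Finset.prod_empty (f := fun i : Fin s => f i ^ e i))]
      exact S.one_mem
    | insert a t hat ih =>
      intro hm
      have hpow : ∀ (p : ℕ) (hp : f a ^ p ∈ 𝒜 ((p * deg a) • 1)), fracR hg (p * deg a) ⟨f a ^ p, hp⟩ ∈ S := by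
        intro p
        induction p with
        | zero =>
          intro hp
          have : fracR hg (0 * deg a) ⟨f a ^ 0, hp⟩ = 1 := by
            refine Eq.trans ?_ (map_one (Proj.awayToSection 𝒜 g).hom)
            refine congrArg (fun w => (Proj.awayToSection 𝒜 g).hom w) (HomogeneousLocalization.val_injective _ ?_)
            rw [HomogeneousLocalization.val_one]
            show Localization.mk (f a ^ 0) _ = 1
            rw [← Localization.mk_one, Localization.mk_eq_mk_iff, Localization.r_iff_exists]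
            exact ⟨1, by simp⟩
          rw [this]
          exact S.one_mem
        | succ p ihp =>
          intro hp
          have key : ∀ (m : ℕ) (hm : m = p * deg a + deg a) (c : 𝒜 (m • 1)), c.1 = f a ^ p * f a →
              fracR hg m c ∈ S := by
            rintro m rfl ⟨c, hc'⟩ rfl
            have h' : f a ^ p ∈ 𝒜 ((p * deg a) • 1) := h1 (by simpa using SetLike.pow_mem_graded p (hf a))
            rw [hmulF _ _ _ _ h' (h1 (hf a))]
            exact S.mul_mem (ihp _) (hratio a)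
          exact key _ (Nat.succ_mul _ _) _ (pow_succ _ _)
      have key : ∀ (m : ℕ) (hm : m = e a * deg a + ∑ i ∈ t, e i * deg i) (c : 𝒜 (m • 1)),
          c.1 = f a ^ e a * ∏ i ∈ t, f i ^ e i → fracR hg m c ∈ S := by
        rintro m rfl ⟨c, hc'⟩ rfl
        have h' : f a ^ e a ∈ 𝒜 ((e a * deg a) • 1) := h1 (by simpa using SetLike.pow_mem_graded (e a) (hf a))
        have h'' : ∏ i ∈ t, f i ^ e i ∈ 𝒜 ((∑ i ∈ t, e i * deg i) • 1) :=
          h1 (by apply SetLike.prod_mem_graded; intro i _; simpa using SetLike.pow_mem_graded (e i) (hf i))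
        rw [hmulF _ _ _ _ h' h'']
        exact S.mul_mem (hpow _ _) (ih _)
      exact key _ (Finset.sum_insert hat) _ (Finset.prod_insert hat)
  have hall : ∀ (k : ℕ) (c : 𝒜 (k • 1)), fracR hg k c ∈ S := by
    rintro k ⟨c, hck⟩
    have key : ∀ z ∈ Submodule.span R ((fun e : Fin s → ℕ => ∏ i, f i ^ e i) '' {e | ∑ i, e i * deg i = k}),
        ∀ hz : z ∈ 𝒜 (k • 1), fracR hg k ⟨z, hz⟩ ∈ S := by
      have hsub : Submodule.span R ((fun e : Fin s → ℕ => ∏ i, f i ^ e i) '' {e | ∑ i, e i * deg i = k}) ≤ 𝒜 (k • 1) :=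
        Submodule.span_le.2 (by rintro _ ⟨e, rfl, rfl⟩; exact h1 (ZeroCycLib.monomial_mem 𝒜 f deg hf e))
      intro z hz
      induction hz using Submodule.span_induction with
      | mem x hx => obtain ⟨e, rfl, rfl⟩ := hx; exact fun hz => hmon Finset.univ e hz
      | zero => exact fun hz => (map_zero (fracR hg k)).symm ▸ S.zero_mem
      | add x y hx hy ihx ihy =>
        intro hz
        rw [show (⟨x + y, hz⟩ : 𝒜 (k • 1)) = ⟨x, hsub hx⟩ + ⟨y, hsub hy⟩ from rfl, map_add]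
        exact S.add_mem (ihx _) (ihy _)
      | smul r x hx ihx =>
        intro hz
        have : fracR hg k ⟨r • x, hz⟩ =
            (Proj.awayToSection 𝒜 g).hom (fromZeroRingHom 𝒜 _ (algebraMap R (𝒜 0) r)) * fracR hg k ⟨x, hsub hx⟩ := by
          refine Eq.trans ?_ (map_mul (Proj.awayToSection 𝒜 g).hom _ _)
          refine congrArg (fun w => (Proj.awayToSection 𝒜 g).hom w) (HomogeneousLocalization.val_injective _ ?_)
          rw [HomogeneousLocalization.val_mul]
          show Localization.mk (r • x) _ = Localization.mk (algebraMap R A r) _ * Localization.mk x _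
          rw [Localization.mk_mul, Localization.mk_eq_mk_iff, Localization.r_iff_exists]
          exact ⟨1, by simp [Algebra.smul_def]⟩
        rw [this]
        exact S.mul_mem (hconst r) (ihx _)
    exact key c (ZeroCycLib.le_span_monomials 𝒜 f deg hf hgen k (by simpa using hck)) hck
  refine eq_top_iff.2 fun z _ => ?_
  haveI : IsIso (Proj.awayToSection 𝒜 g) := by
    rw [← Proj.basicOpenIsoAway_hom 𝒜 g hg one_pos]; infer_instance
  obtain ⟨w, rfl⟩ := (ConcreteCategory.bijective_of_isIso (Proj.awayToSection 𝒜 g)).2 z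
  obtain ⟨k, c, hc', rfl⟩ := Away.mk_surjective 𝒜 hg w
  exact hall k ⟨c, hc'⟩

/-- The embedding when degree one generators cover. -/
theorem exists_embedding_of_degree_one {s : ℕ} (f : Fin s → A) (deg : Fin s → ℕ)
    (hf : ∀ i, f i ∈ 𝒜 (deg i)) (hgen : Algebra.adjoin R (Set.range f) = ⊤) (n : ℕ) (hn : 0 < n)
    (hdn : ∀ i, deg i ≤ n) (hcov1 : ∀ x : Proj 𝒜, ∃ i, deg i = 1 ∧ x ∈ Proj.basicOpen 𝒜 (f i))
    [IsProper (Proj.toSpecZero 𝒜 ≫ Spec.map (CommRingCat.ofHom (algebraMap R (𝒜 0))))] :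
    ∃ (N : ℕ) (i : Proj 𝒜 ⟶ CohB1.ProjSpaceOver N (Spec (CommRingCat.of R))), IsClosedImmersion i ∧
      i ≫ pullback.snd (CohB1.ProjSpace.toSpec N (ULift.{u} ℤ)) (specULiftZIsTerminal.from (Spec (CommRingCat.of R))) =
        Proj.toSpecZero 𝒜 ≫ Spec.map (CommRingCat.ofHom (algebraMap R (𝒜 0))) ∧
      Nonempty (Twist.twist 𝒜 (n : ℤ) ≅
        (Scheme.Modules.pullback i).obj (Twist.twistOver N (Spec (CommRingCat.of R)) 1)) := by
  classical
  let K := {j : Fin s // deg j = 1} × Option (Fin s)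
  obtain ⟨e⟩ : Nonempty (Fin (Fintype.card K + 1) ≃ Option K) :=
    ⟨(finCongr (Fintype.card_option (α := K)).symm).trans (Fintype.equivFin _).symm⟩
  have hf1 : ∀ j : {j : Fin s // deg j = 1}, f j.1 ∈ 𝒜 1 := fun j => by
    have := hf j.1; rwa [j.2] at this
  have hgp : ∀ (j : {j : Fin s // deg j = 1}) m, f j.1 ^ m ∈ 𝒜 m := fun j m => by
    simpa using SetLike.pow_mem_graded m (hf1 j)
  have hl : ∀ (j : {j : Fin s // deg j = 1}) l, f l * f j.1 ^ (n - deg l) ∈ 𝒜 n := fun j l => by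
    simpa [Nat.add_sub_cancel' (hdn l)] using SetLike.mul_mem_graded (hf l) (hgp j (n - deg l))
  let T : Option K → 𝒜 n := fun o => o.elim 0 fun p => p.2.elim ⟨_, hgp p.1 n⟩ fun l => ⟨_, hl p.1 l⟩
  let sec : Fin (Fintype.card K + 1) → Γ(Twist.twist 𝒜 (n : ℤ), ⊤) := fun i => Twist.globalOf 𝒜 (T (e i))
  have hcovn : (⨆ g : 𝒜 n, Proj.basicOpen 𝒜 (g : A)) = ⊤ := eq_top_iff.2 fun x _ => by
    obtain ⟨i, hi, hx⟩ := hcov1 x
    exact Opens.mem_iSup.2 ⟨⟨_, hgp ⟨i, hi⟩ n⟩, fun h => hx (x.isPrime.mem_of_pow_mem n h)⟩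
  have hpow : ∀ (j : {j : Fin s // deg j = 1}), Proj.basicOpen 𝒜 (f j.1 ^ n) = Proj.basicOpen 𝒜 (f j.1) :=
    fun j => Opens.ext (Set.ext fun x => ⟨fun h h' => h (Ideal.pow_mem_of_mem _ h' n hn),
      fun h h' => h (x.isPrime.mem_of_pow_mem n h')⟩)
  have hloc : ∀ (j : {j : Fin s // deg j = 1}),
      TrivBasic.locus (sec (e.symm (some (j, none)))) = Proj.basicOpen 𝒜 (f j.1) := fun j => by
    rw [← hpow j]
    refine (TwistCover.genLocus_globalOf hcovn (T (e (e.symm (some (j, none)))))).trans ?_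
    rw [Equiv.apply_symm_apply]
    rfl
  refine ⟨Fintype.card K, exists_closedImmersion_over_of_good _ (TwistCover.isInvertible_of_cover hcovn) _ sec
    (fun i => ∃ j, i = e.symm (some (j, none)))
    (by rintro _ ⟨j, rfl⟩; rw [hloc j]; exact Proj.isAffineOpen_basicOpen 𝒜 _ (hf1 j) one_pos)
    (fun x => ?_) ?_⟩
  · obtain ⟨i, hi, hx⟩ := hcov1 x
    exact ⟨_, ⟨⟨i, hi⟩, rfl⟩, (hloc ⟨i, hi⟩).ge hx⟩
  · rintro _ ⟨j, rfl⟩ S hc hr
    refine eq_top_of_gen_ratios (hf1 j) f deg hf hgen hdn _ (hloc j) S hc fun l hl' hgn b hb =>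
      hr (e.symm (some (j, some l))) b ?_
    have hsec : ∀ o, sec (e.symm o) = (show Γ(Twist.twist 𝒜 (n : ℤ), ⊤) from Twist.globalOf 𝒜 (T o)) := fun o => by
      simp [sec]
    exact (congrArg (AModX.res _ le_top) (hsec (some (j, some l)))).trans (hb.trans
      (congrArg (fun z => b • AModX.res (Twist.twist 𝒜 (n : ℤ)) le_top z) (hsec (some (j, none))).symm))

end Proj

end Groth.Agent.TwistEmbed
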